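import Cfsg.Agent.H389.R.Def
import Cfsg.Agent.H933.SubField
import Cfsg.Agent.H71.FldAut

/-!
# S3530: extensions of Ree groups (helper70)

`ree_ext` : `K = ²G₂(3^(2m+1))` normal in `Y`, `C_Y(K) = 1`: `Y/K` is cyclic of order dividing `2m + 1`.
-/

set_option autoImplicit false

namespace Cfsg.Agent.H389.RSq

open Subgroup
open Cfsg.Agent.H389.JSq (Has)

universe u v

namespace ReeExt

/-- the outer automorphism group of the Ree group is cyclic -/
theorem isCyclic_out {K : Type} [Field K] [Fintype K] {m : ℕ} (hm : 1 ≤ m) (hK : Fintype.card K = 3 ^ (2 * m + 1)) :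
    IsCyclic (Cfsg.Out ↥(Cfsg.Lie.twistedG2 K (3 ^ m))) := by
  have hf3 : Fact (Nat.Prime 3) := ⟨Nat.prime_three⟩
  have hc : IsCyclic (K ≃+* K) := by
    obtain ⟨σ, hσ⟩ := Cfsg.Agent.H933.SubField.exists_orderOf (show 1 ≤ 2 * m + 1 by omega) hK
    have h1 : Nat.card (K ≃+* K) = 2 * m + 1 := Cfsg.Agent.Lib.FieldAutCard.card_ringAut (by omega) hK
    have : Finite (K ≃+* K) := Nat.finite_of_card_ne_zero (by omega)
    exact isCyclic_of_orderOf_eq_card σ (by rw [hσ, h1])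
  let j : (K ≃+* K) →* Cfsg.Out ↥(Cfsg.Lie.twistedG2 K (3 ^ m)) :=
    (QuotientGroup.mk' (Cfsg.Inn ↥(Cfsg.Lie.twistedG2 K (3 ^ m)))).comp
      (MonoidHom.mk' (fun τ => Cfsg.Agent.S2127.fld τ (3 ^ m)) (fun a b => Cfsg.Agent.H71.FldAut.fldG_mul a b _))
  refine isCyclic_of_surjective j ?_
  intro x
  obtain ⟨α, rfl⟩ := QuotientGroup.mk_surjective x
  obtain ⟨g, τ, hα⟩ := Cfsg.Agent.H71.FldAut.ree_aut hm hK α
  refine ⟨τ, ?_⟩
  show (QuotientGroup.mk (Cfsg.Agent.S2127.fld τ (3 ^ m)) : Cfsg.Out ↥(Cfsg.Lie.twistedG2 K (3 ^ m))) =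
    QuotientGroup.mk α
  rw [hα, QuotientGroup.mk_mul]
  have h2 : (QuotientGroup.mk (MulAut.conj g) : Cfsg.Out ↥(Cfsg.Lie.twistedG2 K (3 ^ m))) = 1 :=
    (QuotientGroup.eq_one_iff _).2 ⟨g, rfl⟩
  rw [h2, one_mul]

/-- `Y/K` embeds in `Out R`, `R ≅ K` -/
theorem exists_hom {Y : Type u} [Group Y] {K : Subgroup Y} [K.Normal] (hc : centralizer (K : Set Y) = ⊥)
    {R : Type v} [Group R] (e : K ≃* R) : ∃ f : (Y ⧸ K) →* Cfsg.Out R, Function.Injective f := by
  let φ : Y →* Cfsg.Out R := (QuotientGroup.mk' (Cfsg.Inn R)).comp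
    ((MulAut.congr e).toMonoidHom.comp (MulAut.conjNormal (H := K)))
  have hφ : ∀ y, φ y = 1 ↔ y ∈ K := by
    intro y
    have h0 : φ y = 1 ↔ MulAut.congr e (MulAut.conjNormal (H := K) y) ∈ Cfsg.Inn R := QuotientGroup.eq_one_iff _
    rw [h0]
    constructor
    · rintro ⟨g, hg⟩
      have hg' : ∀ r, g * r * g⁻¹ = e (MulAut.conjNormal (H := K) y (e.symm r)) := fun r => DFunLike.congr_fun hg r
      obtain ⟨k, rfl⟩ := e.surjective g
      have h1 : (k : Y)⁻¹ * y ∈ centralizer (K : Set Y) := by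
        rw [mem_centralizer_iff]
        intro s hs
        have h2 := hg' (e ⟨s, hs⟩)
        rw [e.symm_apply_apply, ← map_inv, ← map_mul, ← map_mul] at h2
        have h3 := congrArg Subtype.val (e.injective h2)
        rw [MulAut.conjNormal_apply] at h3
        have h4 : (k : Y) * s * (k : Y)⁻¹ = y * s * y⁻¹ := h3
        calc s * ((k : Y)⁻¹ * y) = (k : Y)⁻¹ * ((k : Y) * s * (k : Y)⁻¹) * y := by group
          _ = (k : Y)⁻¹ * (y * s * y⁻¹) * y := by rw [h4]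
          _ = (k : Y)⁻¹ * y * s := by group
      rw [hc, mem_bot, inv_mul_eq_one] at h1
      rw [← h1]
      exact k.2
    · intro hy
      refine ⟨e ⟨y, hy⟩, ?_⟩
      ext r
      show e ⟨y, hy⟩ * r * (e ⟨y, hy⟩)⁻¹ = e (MulAut.conjNormal (H := K) y (e.symm r))
      obtain ⟨s, rfl⟩ := e.surjective r
      rw [e.symm_apply_apply, ← map_inv, ← map_mul, ← map_mul]
      congr 1
  refine ⟨QuotientGroup.lift K φ fun y hy => (hφ y).2 hy, ?_⟩
  rw [injective_iff_map_eq_one]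
  intro y hy
  obtain ⟨y, rfl⟩ := QuotientGroup.mk_surjective y
  rw [QuotientGroup.eq_one_iff, ← hφ]
  exact hy

end ReeExt

/-- **Extensions of Ree groups.** -/
theorem ree_ext {m : ℕ} {Y : Type u} [Group Y] [Finite Y] {K : Subgroup Y} [K.Normal] (h : IsRee m K)
    (hc : centralizer (K : Set Y) = ⊥) (hodd : Odd K.index) : IsCyclic (Y ⧸ K) ∧ K.index ∣ 2 * m + 1 := by
  obtain ⟨hm, F, hF1, hF2, hF, ⟨e⟩⟩ := h
  obtain ⟨f, hf⟩ := ReeExt.exists_hom hc e
  have hcyc := ReeExt.isCyclic_out hm hF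
  refine ⟨isCyclic_of_injective f hf, ?_⟩
  rw [← Cfsg.Agent.S2127.result (K := F) hm hF]
  exact Subgroup.card_dvd_of_injective f hf

end Cfsg.Agent.H389.RSq
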